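import Cfsg.Agent.H167.OP.MinD2

/-!
# The linear lemma, abelian case (helper167)

`rk ρ y = dim [V,y]`.  If `y` is a `t`-element normalising, but not centralising, an abelian `s`-group,
`s < t`, then `rk ρ y ≥ (t - 1) dim V_E` for a nonzero space `V_E`.
-/

set_option autoImplicit false

namespace Cfsg.Agent.H167.OP

open Module

variable {F : Type*} [Field F] {V : Type*} [AddCommGroup V] [Module F V] {G : Type*} [Group G]

theorem mul_ap (ρ : Representation F G V) (g h : G) (v : V) : ρ (g * h) v = ρ g (ρ h v) := by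
  rw [map_mul]; rfl

theorem inv_ap (ρ : Representation F G V) (g : G) (v : V) : ρ g⁻¹ (ρ g v) = v := by
  rw [← mul_ap, inv_mul_cancel, map_one]; rfl

theorem ap_inv (ρ : Representation F G V) (g : G) (v : V) : ρ g (ρ g⁻¹ v) = v := by
  rw [← mul_ap, mul_inv_cancel, map_one]; rfl

theorem one_ap (ρ : Representation F G V) (v : V) : ρ 1 v = v := by
  rw [map_one]; rfl

/-- `dim [V,y]` -/
noncomputable def rk (ρ : Representation F G V) (y : G) : ℕ := finrank F (LinearMap.range (ρ y - 1))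

theorem sub_mem_range (ρ : Representation F G V) (y : G) (v : V) :
    ρ y v - v ∈ LinearMap.range (ρ y - 1) := ⟨v, rfl⟩

theorem pow_sub_mem_range (ρ : Representation F G V) (y : G) (n : ℕ) (v : V) :
    ρ (y ^ (n + 1)) v - ρ (y ^ n) v ∈ LinearMap.range (ρ y - 1) := by
  rw [pow_succ', mul_ap]
  exact sub_mem_range ρ y _

/-- independent translates give a lower bound of the rank -/
theorem le_rk [FiniteDimensional F V] (ρ : Representation F G V) (y : G) (W : Submodule F V) (m : ℕ)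
    (hW : ∀ w : ℕ → V, (∀ i, w i ∈ W) → ∑ i ∈ Finset.range (m + 1), ρ (y ^ i) (w i) = 0 →
      ∀ i ≤ m, w i = 0) : m * finrank F W ≤ rk ρ y := by
  classical
  let φ : (Fin m → W) →ₗ[F] LinearMap.range (ρ y - 1) :=
    { toFun := fun w => ⟨∑ i : Fin m, (ρ (y ^ ((i : ℕ) + 1)) (w i) - ρ (y ^ (i : ℕ)) (w i)),
        Submodule.sum_mem _ fun i _ => pow_sub_mem_range ρ y i _⟩
      map_add' := fun a b => Subtype.ext (by
        simp only [Pi.add_apply, Submodule.coe_add, map_add, ← Finset.sum_add_distrib]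
        refine Finset.sum_congr rfl fun i _ => ?_
        abel)
      map_smul' := fun c a => Subtype.ext (by
        simp only [Pi.smul_apply, Submodule.coe_smul, map_smul, RingHom.id_apply, Finset.smul_sum,
          smul_sub]) }
  have hinj : Function.Injective φ := by
    rw [← LinearMap.ker_eq_bot, LinearMap.ker_eq_bot']
    intro w hw
    have h0 : ∑ i : Fin m, (ρ (y ^ ((i : ℕ) + 1)) (w i) - ρ (y ^ (i : ℕ)) (w i)) = 0 :=
      congrArg Subtype.val hw
    let w' : ℕ → V := fun i => if h : i < m then (w ⟨i, h⟩ : V) else 0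
    have hw' : ∀ i, w' i ∈ W := by
      intro i
      by_cases h : i < m
      · simp only [w', h, dif_pos]; exact (w ⟨i, h⟩).2
      · simp only [w', h, dif_neg, not_false_iff]; exact W.zero_mem
    have h1 : ∑ i ∈ Finset.range m, (ρ (y ^ (i + 1)) (w' i) - ρ (y ^ i) (w' i)) = 0 := by
      rw [Finset.sum_range]
      rw [← h0]
      refine Finset.sum_congr rfl fun i _ => ?_
      simp only [w', i.2, dif_pos]
    let u : ℕ → V := fun i => if i = 0 then - w' 0 else w' (i - 1) - w' i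
    have hu : ∀ i, u i ∈ W := by
      intro i
      by_cases h : i = 0
      · simp only [u, h, if_true]; exact W.neg_mem (hw' _)
      · simp only [u, h, if_false]; exact W.sub_mem (hw' _) (hw' _)
    have h2 : ∑ i ∈ Finset.range (m + 1), ρ (y ^ i) (u i) = 0 := by
      rw [Finset.sum_range_succ']
      have h3 : ∀ i ∈ Finset.range m, ρ (y ^ (i + 1)) (u (i + 1)) =
          ρ (y ^ (i + 1)) (w' i) - ρ (y ^ (i + 1)) (w' (i + 1)) := by
        intro i _
        simp only [u, Nat.succ_ne_zero, if_false, Nat.add_sub_cancel, map_sub]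
      rw [Finset.sum_congr rfl h3, Finset.sum_sub_distrib]
      rw [Finset.sum_sub_distrib] at h1
      have h4 : ∑ i ∈ Finset.range m, ρ (y ^ (i + 1)) (w' (i + 1)) + ρ (y ^ 0) (w' 0) =
          ∑ i ∈ Finset.range m, ρ (y ^ i) (w' i) := by
        rw [← Finset.sum_range_succ' (fun i => ρ (y ^ i) (w' i)), Finset.sum_range_succ]
        have : w' m = 0 := by simp only [w', lt_irrefl, dif_neg, not_false_iff]
        rw [this, map_zero, add_zero]
      have h5 : ρ (y ^ 0) (u 0) = - ρ (y ^ 0) (w' 0) := by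
        simp only [u, if_true, map_neg]
      rw [h5]
      rw [sub_eq_zero] at h1
      rw [h1, ← h4]
      abel
    have h3 := hW u hu h2
    have h4 : ∀ i, i ≤ m → w' i = 0 := by
      intro i
      induction i with
      | zero =>
        intro _
        have := h3 0 (Nat.zero_le _)
        simp only [u, if_true, neg_eq_zero] at this
        exact this
      | succ i ih =>
        intro hi
        have h5 := h3 (i + 1) hi
        simp only [u, Nat.succ_ne_zero, if_false, Nat.add_sub_cancel] at h5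
        rw [ih (by omega), zero_sub, neg_eq_zero] at h5
        exact h5
    funext i
    apply Subtype.ext
    have := h4 i (by omega)
    simp only [w', i.2, dif_pos] at this
    exact this
  have h1 := LinearMap.finrank_le_finrank_of_injective hinj
  rw [Module.finrank_pi_fintype, Finset.sum_const, Finset.card_univ, Fintype.card_fin,
    smul_eq_mul] at h1
  exact h1

section avg

variable (ρ : Representation F G V) (E : Subgroup G) [Finite G]

/-- the projection onto the fixed space of `E` -/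
noncomputable def avg : Module.End F V :=
  letI : Fintype E := Fintype.ofFinite E
  (Nat.card E : F)⁻¹ • ∑ e : E, ρ e

theorem avg_apply [Fintype E] (v : V) : avg ρ E v = (Nat.card E : F)⁻¹ • ∑ e : E, ρ e v := by
  unfold avg
  rw [LinearMap.smul_apply, LinearMap.sum_apply]
  congr 1
  refine Finset.sum_congr ?_ fun _ _ => rfl
  ext
  simp

theorem avg_fixed (hE : (Nat.card E : F) ≠ 0) {v : V} (hv : ∀ e ∈ E, ρ e v = v) :
    avg ρ E v = v := by
  have : Fintype E := Fintype.ofFinite E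
  rw [avg_apply, Finset.sum_congr rfl fun (e : E) _ => hv e e.2, Finset.sum_const,
    Finset.card_univ, ← Nat.card_eq_fintype_card, ← Nat.cast_smul_eq_nsmul F, smul_smul,
    inv_mul_cancel₀ hE, one_smul]

theorem map_avg {e : G} (he : e ∈ E) (v : V) : ρ e (avg ρ E v) = avg ρ E v := by
  have : Fintype E := Fintype.ofFinite E
  rw [avg_apply, map_smul, map_sum]
  congr 1
  refine Fintype.sum_equiv (Equiv.mulLeft (⟨e, he⟩ : E)) _ _ fun x => ?_
  rw [← mul_ap]
  rfl

theorem avg_map {e : G} (he : e ∈ E) (v : V) : avg ρ E (ρ e v) = avg ρ E v := by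
  have : Fintype E := Fintype.ofFinite E
  rw [avg_apply, avg_apply]
  congr 1
  refine Fintype.sum_equiv (Equiv.mulRight (⟨e, he⟩ : E)) _ _ fun x => ?_
  rw [← mul_ap]
  rfl

theorem avg_comm {g : G} (hg : ∀ e ∈ E, g * e = e * g) (v : V) :
    ρ g (avg ρ E v) = avg ρ E (ρ g v) := by
  have : Fintype E := Fintype.ofFinite E
  rw [avg_apply, map_smul, map_sum, avg_apply]
  congr 1
  refine Finset.sum_congr rfl fun x _ => ?_
  rw [← mul_ap, hg x x.2, mul_ap]

theorem avg_avg {E' : Subgroup G} (hg : ∀ g ∈ E', ∀ e ∈ E, g * e = e * g) (v : V) :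
    avg ρ E' (avg ρ E v) = avg ρ E (avg ρ E' v) := by
  have : Fintype E' := Fintype.ofFinite E'
  rw [avg_apply ρ E', avg_apply ρ E', map_smul, map_sum]
  congr 1
  refine Finset.sum_congr rfl fun x _ => ?_
  exact avg_comm ρ E (hg x x.2) v

theorem avg_conj {D' : Subgroup G} (g : G) (hD : ∀ x, x ∈ D' ↔ g⁻¹ * x * g ∈ E) (v : V) :
    ρ g (avg ρ E v) = avg ρ D' (ρ g v) := by
  have : Fintype E := Fintype.ofFinite E
  have : Fintype D' := Fintype.ofFinite D'
  let e : E ≃ D' :=
    { toFun := fun x => ⟨g * x * g⁻¹, by rw [hD]; convert x.2 using 1; group⟩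
      invFun := fun x => ⟨g⁻¹ * x * g, (hD x).mp x.2⟩
      left_inv := fun x => Subtype.ext (by
        show g⁻¹ * (g * x * g⁻¹) * g = x
        group)
      right_inv := fun x => Subtype.ext (by
        show g * (g⁻¹ * x * g) * g⁻¹ = x
        group) }
  rw [avg_apply, map_smul, map_sum, avg_apply, Nat.card_congr e]
  congr 1
  refine Fintype.sum_equiv e _ _ fun x => ?_
  rw [← mul_ap, ← mul_ap]
  congr 2
  show g * x = g * x * g⁻¹ * g
  group

/-- the part of the fixed space of `E` outside the fixed space of `D` -/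
noncomputable def VE (D : Subgroup G) : Submodule F V where
  carrier := {w | (∀ e ∈ E, ρ e w = w) ∧ avg ρ D w = 0}
  zero_mem' := ⟨fun _ _ => map_zero _, map_zero _⟩
  add_mem' := by
    rintro a b ⟨ha, ha1⟩ ⟨hb, hb1⟩
    exact ⟨fun e he => by rw [map_add, ha e he, hb e he], by rw [map_add, ha1, hb1, add_zero]⟩
  smul_mem' := by
    rintro c a ⟨ha, ha1⟩
    exact ⟨fun e he => by rw [map_smul, ha e he], by rw [map_smul, ha1, smul_zero]⟩

theorem mem_VE {D : Subgroup G} {w : V} :
    w ∈ VE ρ E D ↔ (∀ e ∈ E, ρ e w = w) ∧ avg ρ D w = 0 := Iff.rfl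

end avg

variable {s t : ℕ} {y : G} {D : Subgroup G}

/-- `E` is a maximal subgroup of the abelian group `D`, in the form used here -/
def MaxIn (E D : Subgroup G) : Prop := E ≤ D ∧ ∀ x ∈ D, x ∉ E → D ≤ E ⊔ Subgroup.zpowers x

theorem VE_avg_zero [Finite G] (ρ : Representation F G V) {D E E' : Subgroup G}
    (hD : (Nat.card D : F) ≠ 0) (hab : ∀ a ∈ D, ∀ b ∈ D, a * b = b * a) (hE : MaxIn E D)
    (hE' : MaxIn E' D) (hne : E ≠ E') {w : V} (hw : w ∈ VE ρ E' D) : avg ρ E w = 0 := by
  have h1 : ∀ e ∈ E, ρ e (avg ρ E w) = avg ρ E w := fun e he => map_avg ρ E he w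
  have h2 : ∀ e ∈ E', ρ e (avg ρ E w) = avg ρ E w := by
    intro e he
    rw [avg_comm ρ E (fun x hx => hab _ (hE'.1 he) _ (hE.1 hx)), hw.1 e he]
  have h3 : D ≤ E ⊔ E' := by
    by_cases h : E' ≤ E
    · -- then `E' < E`, so `D ≤ E`
      obtain ⟨x, hx, hx'⟩ : ∃ x ∈ E, x ∉ E' := by
        by_contra hcon
        push Not at hcon
        exact hne (le_antisymm hcon h)
      refine (hE'.2 x (hE.1 hx) hx').trans ?_
      exact sup_le le_sup_right ((Subgroup.zpowers_le.mpr hx).trans le_sup_left)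
    · obtain ⟨x, hx, hx'⟩ := Set.not_subset.mp h
      refine (hE.2 x (hE'.1 hx) hx').trans ?_
      exact sup_le_sup_left (Subgroup.zpowers_le.mpr hx) _
  let S : Subgroup G :=
    { carrier := {g | ρ g (avg ρ E w) = avg ρ E w}
      one_mem' := one_ap ρ _
      mul_mem' := by
        intro a b ha hb
        show ρ (a * b) _ = _
        rw [mul_ap, hb, ha]
      inv_mem' := by
        intro a ha
        show ρ a⁻¹ _ = _
        have : ρ a (avg ρ E w) = avg ρ E w := ha
        conv_lhs => rw [← this]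
        rw [inv_ap] }
  have h4 : D ≤ S := h3.trans (sup_le h1 h2)
  have h5 := avg_fixed ρ D hD (v := avg ρ E w) (fun e he => h4 he)
  rw [← h5, avg_avg ρ E (fun g hg e he => hab _ hg _ (hE.1 he)), hw.2, map_zero]

/-- existence of `V_E ≠ 0` -/
theorem exists_VE [Finite G] (ρ : Representation F G V) {D : Subgroup G} {s : ℕ} (hs : s.Prime)
    (hsF : (s : F) ≠ 0) (hD : (Nat.card D : F) ≠ 0) (hab : ∀ a ∈ D, ∀ b ∈ D, a * b = b * a)
    (hexp : ∀ a ∈ D, a ^ s = 1) (hρ : ∃ d ∈ D, ρ d ≠ 1) :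
    ∃ E : Subgroup G, MaxIn E D ∧ E ≠ D ∧ VE ρ E D ≠ ⊥ := by
  classical
  obtain ⟨d, hd, hd1⟩ := hρ
  have hW0 : ∃ w : V, w ≠ 0 ∧ avg ρ D w = 0 := by
    by_contra hcon
    push Not at hcon
    apply hd1
    apply LinearMap.ext
    intro v
    by_contra hv
    refine hcon (ρ d v - v) (sub_ne_zero.mpr hv) ?_
    rw [map_sub, avg_map ρ D hd, sub_self]
  let S : Set (Subgroup G) := {E | E ≤ D ∧ ∃ w ∈ VE ρ E D, w ≠ 0}
  have hS : S.Nonempty := by
    obtain ⟨w, hw, hw1⟩ := hW0
    refine ⟨⊥, bot_le, w, ⟨?_, hw1⟩, hw⟩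
    intro e he
    rw [Subgroup.mem_bot] at he
    rw [he, one_ap]
  obtain ⟨E, hES, hEmax⟩ := (Set.toFinite S).exists_maximal hS
  obtain ⟨hED, w, hw, hw0⟩ := hES
  have hmax : ∀ x ∈ D, x ∉ E → ∀ u : V, u ∈ VE ρ E D → ρ x u = u → u = 0 := by
    intro x hx hxE u hu hxu
    by_contra hu0
    have h1 : E ⊔ Subgroup.zpowers x ∈ S := by
      refine ⟨sup_le hED (Subgroup.zpowers_le.mpr hx), u, ⟨?_, hu.2⟩, hu0⟩
      let T : Subgroup G :=
        { carrier := {g | ρ g u = u}
          one_mem' := one_ap ρ _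
          mul_mem' := by
            intro a b ha hb
            show ρ (a * b) _ = _
            rw [mul_ap, hb, ha]
          inv_mem' := by
            intro a ha
            show ρ a⁻¹ _ = _
            have : ρ a u = u := ha
            conv_lhs => rw [← this]
            rw [inv_ap] }
      have : E ⊔ Subgroup.zpowers x ≤ T := sup_le (fun e he => hu.1 e he) (Subgroup.zpowers_le.mpr hxu)
      exact fun e he => this he
    have h2 := hEmax h1 le_sup_left
    exact hxE (h2 ((le_sup_right : Subgroup.zpowers x ≤ _) (Subgroup.mem_zpowers x)))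
  have hinv : ∀ x ∈ D, ∀ u ∈ VE ρ E D, ρ x u ∈ VE ρ E D := by
    intro x hx u hu
    refine ⟨fun e he => ?_, ?_⟩
    · rw [← mul_ap, hab e (hED he) x hx, mul_ap, hu.1 e he]
    · rw [avg_map ρ D hx, hu.2]
  have hN : ∀ x ∈ D, x ∉ E → ∀ u ∈ VE ρ E D, ∑ j ∈ Finset.range s, ρ (x ^ j) u = 0 := by
    intro x hx hxE u hu
    refine hmax x hx hxE _ (Submodule.sum_mem _ fun j _ => hinv _ (D.pow_mem hx _) u hu) ?_
    rw [map_sum]
    have h1 : ∀ j ∈ Finset.range s, ρ x (ρ (x ^ j) u) = ρ (x ^ (j + 1)) u := by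
      intro j _
      rw [← mul_ap, ← pow_succ']
    rw [Finset.sum_congr rfl h1]
    have h2 := Finset.sum_range_succ (fun j => ρ (x ^ j) u) s
    have h3 := Finset.sum_range_succ' (fun j => ρ (x ^ j) u) s
    rw [h2] at h3
    rw [hexp x hx, pow_zero] at h3
    exact (add_right_cancel h3).symm
  refine ⟨E, ⟨hED, ?_⟩, ?_, ?_⟩
  · intro a ha haE b hb
    by_contra hbE
    have hbE' : ∀ i j : ℕ, j ≠ 0 → j < s → a ^ i * b ^ j ∉ E := by
      intro i j hj hjs hmem
      apply hbE
      -- `b ^ j` is in the join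
      have h1 : b ^ j ∈ E ⊔ Subgroup.zpowers a := by
        have h2 : b ^ j = (a ^ i)⁻¹ * (a ^ i * b ^ j) := by group
        rw [h2]
        exact Subgroup.mul_mem _ (Subgroup.inv_mem _ ((le_sup_right : Subgroup.zpowers a ≤ _)
          (Subgroup.pow_mem _ (Subgroup.mem_zpowers a) _))) ((le_sup_left : E ≤ _) hmem)
      have hcop : j.Coprime s := by
        rw [Nat.coprime_comm, Nat.Prime.coprime_iff_not_dvd hs]
        intro hdv
        have := Nat.le_of_dvd (Nat.pos_of_ne_zero hj) hdv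
        omega
      obtain ⟨m, -, hm⟩ := Nat.exists_mul_mod_eq_one_of_coprime hcop hs.one_lt
      have h3 : b = (b ^ j) ^ m := by
        rw [← pow_mul]
        conv_rhs => rw [← Nat.div_add_mod (j * m) s, hm, pow_add, pow_mul, hexp b hb, one_pow,
          one_mul, pow_one]
      rw [h3]
      exact Subgroup.pow_mem _ h1 _
    have h1 : ∑ i ∈ Finset.range s, ∑ j ∈ Finset.range s, ρ ((a ^ i * b) ^ j) w = 0 := by
      refine Finset.sum_eq_zero fun i _ => ?_
      refine hN _ (D.mul_mem (D.pow_mem ha _) hb) ?_ w hw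
      have := hbE' i 1 one_ne_zero hs.one_lt
      rwa [pow_one] at this
    rw [Finset.sum_comm] at h1
    rw [Finset.sum_eq_single_of_mem 0 (Finset.mem_range.mpr hs.pos)] at h1
    · simp only [pow_zero, one_ap, Finset.sum_const, Finset.card_range] at h1
      rw [← Nat.cast_smul_eq_nsmul F, smul_eq_zero] at h1
      exact hw0 (h1.resolve_left hsF)
    · intro j hj hj0
      rw [Finset.mem_range] at hj
      have h2 : ∀ i ∈ Finset.range s, ρ ((a ^ i * b) ^ j) w = ρ ((a ^ j) ^ i) (ρ (b ^ j) w) := by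
        intro i _
        rw [(show Commute (a ^ i) b from hab _ (D.pow_mem ha _) _ hb).mul_pow, mul_ap, ← pow_mul,
          ← pow_mul, mul_comm i j]
      rw [Finset.sum_congr rfl h2]
      refine hN _ (D.pow_mem ha _) ?_ _ (hinv _ (D.pow_mem hb _) w hw)
      intro hmem
      -- `a ∈ E`
      apply haE
      have hcop : j.Coprime s := by
        rw [Nat.coprime_comm, Nat.Prime.coprime_iff_not_dvd hs]
        intro hdv
        have := Nat.le_of_dvd (Nat.pos_of_ne_zero hj0) hdv
        omega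
      obtain ⟨m, -, hm⟩ := Nat.exists_mul_mod_eq_one_of_coprime hcop hs.one_lt
      have h3 : a = (a ^ j) ^ m := by
        rw [← pow_mul]
        conv_rhs => rw [← Nat.div_add_mod (j * m) s, hm, pow_add, pow_mul, hexp a ha, one_pow,
          one_mul, pow_one]
      rw [h3]
      exact E.pow_mem hmem _
  · rintro rfl
    exact hw0 (by rw [← avg_fixed ρ E hD hw.1, hw.2])
  · intro hbot
    rw [hbot, Submodule.mem_bot] at hw
    exact hw0 hw

theorem card_ne_zero_of_MinD [Finite G] (h : MinD s t y D) (hsF : (s : F) ≠ 0)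
    {E : Subgroup G} (hE : E ≤ D) : (Nat.card E : F) ≠ 0 := by
  have hs : Fact s.Prime := ⟨h.hs⟩
  have h1 : IsPGroup s E := h.isPGroup.to_le hE
  obtain ⟨n, hn⟩ := IsPGroup.iff_card.mp h1
  rw [hn, Nat.cast_pow]
  exact pow_ne_zero _ hsF

/-- the index of a maximal subgroup -/
theorem relIndex_le [Finite G] {D E : Subgroup G} {s : ℕ} (hs : s.Prime)
    (hab : ∀ a ∈ D, ∀ b ∈ D, a * b = b * a) (hexp : ∀ a ∈ D, a ^ s = 1) (hE : MaxIn E D) :
    E.relIndex D ≤ s := by
  classical
  by_cases h0 : D ≤ E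
  · rw [Subgroup.relIndex_eq_one.mpr h0]
    exact hs.one_lt.le
  obtain ⟨x, hx, hxE⟩ := Set.not_subset.mp h0
  have hx : x ∈ D := hx
  let T : Subgroup G :=
    { carrier := {g | g ∈ D ∧ ∃ n : ℕ, (x ^ n)⁻¹ * g ∈ E}
      one_mem' := ⟨D.one_mem, 0, by simp⟩
      mul_mem' := by
        rintro a b ⟨ha, n, hn⟩ ⟨hb, m, hm⟩
        refine ⟨D.mul_mem ha hb, n + m, ?_⟩
        have h1 : (x ^ (n + m))⁻¹ * (a * b) = ((x ^ n)⁻¹ * a) * ((x ^ m)⁻¹ * b) := by
          have h2 : (x ^ m)⁻¹ * a = a * (x ^ m)⁻¹ := hab _ (D.inv_mem (D.pow_mem hx _)) _ ha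
          have h3 : (x ^ m)⁻¹ * (x ^ n)⁻¹ = (x ^ n)⁻¹ * (x ^ m)⁻¹ :=
            hab _ (D.inv_mem (D.pow_mem hx _)) _ (D.inv_mem (D.pow_mem hx _))
          calc (x ^ (n + m))⁻¹ * (a * b) = (x ^ m)⁻¹ * (x ^ n)⁻¹ * (a * b) := by
                rw [pow_add, mul_inv_rev]
            _ = (x ^ n)⁻¹ * ((x ^ m)⁻¹ * a) * b := by rw [h3]; group
            _ = (x ^ n)⁻¹ * (a * (x ^ m)⁻¹) * b := by rw [h2]
            _ = _ := by group
        rw [h1]
        exact E.mul_mem hn hm
      inv_mem' := by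
        rintro a ⟨ha, n, hn⟩
        refine ⟨D.inv_mem ha, n * (s - 1), ?_⟩
        have h1 : (x ^ (n * (s - 1)))⁻¹ = x ^ n := by
          rw [inv_eq_iff_mul_eq_one, ← pow_add]
          have : n * (s - 1) + n = s * n := by
            obtain ⟨k, rfl⟩ := Nat.exists_eq_add_of_le hs.one_lt.le
            simp
            ring
          rw [this, pow_mul, hexp x hx, one_pow]
        rw [h1]
        have h2 : x ^ n * a⁻¹ = ((x ^ n)⁻¹ * a)⁻¹ := by
          rw [mul_inv_rev, inv_inv]
          exact hab _ (D.pow_mem hx _) _ (D.inv_mem ha)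
        rw [h2]
        exact E.inv_mem hn }
  have hT : D ≤ T := by
    refine (hE.2 x hx hxE).trans (sup_le ?_ (Subgroup.zpowers_le.mpr ?_))
    · intro e he
      exact ⟨hE.1 he, 0, by simpa using he⟩
    · exact ⟨hx, 1, by simp⟩
  rw [Subgroup.relIndex, Subgroup.index]
  let f : Fin s → D ⧸ E.subgroupOf D := fun j => QuotientGroup.mk ⟨x ^ (j : ℕ), D.pow_mem hx _⟩
  have hf : Function.Surjective f := by
    intro q
    induction q using QuotientGroup.induction_on with
    | H d =>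
      obtain ⟨-, n, hn⟩ := hT d.2
      refine ⟨⟨n % s, Nat.mod_lt _ hs.pos⟩, ?_⟩
      show (QuotientGroup.mk _ : D ⧸ E.subgroupOf D) = QuotientGroup.mk d
      rw [QuotientGroup.eq, Subgroup.mem_subgroupOf]
      show (x ^ (n % s))⁻¹ * (d : G) ∈ E
      have : x ^ (n % s) = x ^ n := by
        conv_rhs => rw [← Nat.div_add_mod n s, pow_add, pow_mul, hexp x hx, one_pow, one_mul]
      rw [this]
      exact hn
  have h1 := Nat.card_le_card_of_surjective f hf
  rwa [Nat.card_fin] at h1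

theorem MinD.not_nrm_max [Finite G] (h : MinD s t y D) (hst : s < t)
    (hab : ∀ a ∈ D, ∀ b ∈ D, a * b = b * a) {E : Subgroup G} (hE : MaxIn E D) (hne : E ≠ D)
    (hn : Nrm y E) : False := by
  have h1 := h.relIndex_modEq hn (fun a ha b hb => by
    rw [hab a ha b hb, mul_inv_cancel_right, mul_inv_cancel]
    exact E.one_mem)
  have h2 := relIndex_le h.hs hab (fun a ha => h.pow_eq_one hab ha) hE
  have h3 : E.relIndex D ≠ 1 := by
    intro h4
    rw [Subgroup.relIndex_eq_one] at h4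
    exact hne (le_antisymm hE.1 h4)
  have h4 : E.relIndex D < t := lt_of_le_of_lt h2 hst
  have h5 : (1 : ℕ) < t := h.ht.one_lt
  rw [Nat.ModEq, Nat.mod_eq_of_lt h4, Nat.mod_eq_of_lt h5] at h1
  exact h3 h1

/-- the conjugate of a subgroup -/
def cj (g : G) (E : Subgroup G) : Subgroup G := E.map (MulAut.conj g).toMonoidHom

theorem mem_cj {g x : G} {E : Subgroup G} : x ∈ cj g E ↔ g⁻¹ * x * g ∈ E := by
  constructor
  · rintro ⟨e, he, rfl⟩
    have : g⁻¹ * (g * e * g⁻¹) * g = e := by group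
    show g⁻¹ * (g * e * g⁻¹) * g ∈ E
    rw [this]
    exact he
  · intro hx
    refine ⟨_, hx, ?_⟩
    show g * (g⁻¹ * x * g) * g⁻¹ = x
    group

theorem nrm_pow {y : G} {D : Subgroup G} (h : Nrm y D) (n : ℕ) : Nrm (y ^ n) D := by
  induction n with
  | zero => intro d hd; simpa using hd
  | succ n ih =>
    intro d hd
    have : y ^ (n + 1) * d * (y ^ (n + 1))⁻¹ = y * (y ^ n * d * (y ^ n)⁻¹) * y⁻¹ := by
      rw [pow_succ']; group
    rw [this]
    exact h _ (ih d hd)

theorem nrm_inv [Finite G] {y : G} {D : Subgroup G} (h : Nrm y D) {d : G} (hd : d ∈ D) :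
    y⁻¹ * d * y ∈ D := by
  have h1 : y⁻¹ = y ^ (orderOf y - 1) := by
    rw [inv_eq_iff_mul_eq_one, ← pow_succ']
    have := orderOf_pos y
    rw [Nat.sub_add_cancel this, pow_orderOf_eq_one]
  have h2 := nrm_pow h (orderOf y - 1) d hd
  rw [← h1, inv_inv] at h2
  exact h2

theorem cj_self [Finite G] {y : G} {D : Subgroup G} (h : Nrm y D) (n : ℕ) (x : G) :
    x ∈ D ↔ (y ^ n)⁻¹ * x * y ^ n ∈ D := by
  constructor
  · exact fun hx => nrm_inv (nrm_pow h n) hx
  · intro hx
    have := nrm_pow h n _ hx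
    convert this using 1
    group

theorem nrm_of_pow {y : G} {E : Subgroup G} {t a k : ℕ} (ht : t.Prime) (hy : y ^ t ^ a = 1)
    (hk : ¬ t ∣ k) (h : Nrm (y ^ k) E) : Nrm y E := by
  by_cases ha : t ^ a = 1
  · rw [ha, pow_one] at hy
    intro d hd
    rw [hy]
    simpa using hd
  have hcop : k.Coprime (t ^ a) := by
    apply Nat.Coprime.pow_right
    rw [Nat.coprime_comm]
    exact (Nat.Prime.coprime_iff_not_dvd ht).mpr hk
  have hpos : 0 < t ^ a := Nat.pow_pos ht.pos
  obtain ⟨m, -, hm⟩ := Nat.exists_mul_mod_eq_one_of_coprime hcop (by omega)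
  have h3 : y = (y ^ k) ^ m := by
    rw [← pow_mul]
    conv_rhs => rw [← Nat.div_add_mod (k * m) (t ^ a), hm, pow_add, pow_mul, hy, one_pow,
      one_mul, pow_one]
  rw [h3]
  exact nrm_pow h m

/-- **The abelian case**: the translates of `V_E` are independent. -/
theorem alpha [Finite G] [FiniteDimensional F V] (ρ : Representation F G V) (h : MinD s t y D)
    (hst : s < t) (hsF : (s : F) ≠ 0) (hab : ∀ a ∈ D, ∀ b ∈ D, a * b = b * a)
    (hρ : ∃ d ∈ D, ρ d ≠ 1) :
    ∃ E : Subgroup G, MaxIn E D ∧ E ≠ D ∧ VE ρ E D ≠ ⊥ ∧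
      (t - 1) * finrank F (VE ρ E D) ≤ rk ρ y := by
  have hcD := card_ne_zero_of_MinD h hsF (le_refl D)
  obtain ⟨E, hE, hne, hV⟩ := exists_VE ρ h.hs hsF hcD hab (fun a ha => h.pow_eq_one hab ha) hρ
  refine ⟨E, hE, hne, hV, le_rk ρ y _ (t - 1) ?_⟩
  intro w hw hsum
  have htt : t - 1 + 1 = t := Nat.sub_add_cancel h.ht.one_lt.le
  rw [htt] at hsum
  have hmax : ∀ n : ℕ, MaxIn (cj (y ^ n) E) D := by
    intro n
    refine ⟨fun x hx => ?_, fun x hx hxE => ?_⟩
    · rw [mem_cj] at hx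
      exact (cj_self h.nrm n x).mpr (hE.1 hx)
    · rw [mem_cj] at hxE
      have h1 := hE.2 _ ((cj_self h.nrm n x).mp hx) hxE
      intro z hz
      have h2 := h1 ((cj_self h.nrm n z).mp hz)
      have h3 : z ∈ cj (y ^ n) (E ⊔ Subgroup.zpowers ((y ^ n)⁻¹ * x * y ^ n)) := mem_cj.mpr h2
      rw [cj, Subgroup.map_sup, MonoidHom.map_zpowers] at h3
      have h4 : (MulAut.conj (y ^ n)).toMonoidHom ((y ^ n)⁻¹ * x * y ^ n) = x := by
        show y ^ n * ((y ^ n)⁻¹ * x * y ^ n) * (y ^ n)⁻¹ = x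
        group
      rw [h4] at h3
      exact h3
  have hdist : ∀ i j : ℕ, i < j → j < t → cj (y ^ i) E ≠ cj (y ^ j) E := by
    intro i j hij hj heq
    obtain ⟨a, ha⟩ := h.hy
    have h1 : Nrm (y ^ (j - i)) E := by
      intro d hd
      have h2 : y ^ j * d * (y ^ j)⁻¹ ∈ cj (y ^ j) E := by
        rw [mem_cj]
        convert hd using 1
        group
      rw [← heq, mem_cj] at h2
      convert h2 using 1
      have h3 : y ^ j = y ^ i * y ^ (j - i) := by rw [← pow_add]; congr 1; omega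
      rw [h3]
      group
    refine h.not_nrm_max hst hab hE hne (nrm_of_pow h.ht ha ?_ h1)
    intro hdv
    have := Nat.le_of_dvd (by omega) hdv
    omega
  have hdist' : ∀ i j : ℕ, i ≠ j → i < t → j < t → cj (y ^ i) E ≠ cj (y ^ j) E := by
    intro i j hij hi hj
    rcases lt_or_gt_of_ne hij with h1 | h1
    · exact hdist i j h1 hj
    · exact (hdist j i h1 hi).symm
  have hmem : ∀ n : ℕ, ∀ u ∈ VE ρ E D, ρ (y ^ n) u ∈ VE ρ (cj (y ^ n) E) D := by
    intro n u hu
    refine ⟨fun e he => ?_, ?_⟩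
    · rw [mem_cj] at he
      have h1 := hu.1 _ he
      have h2 : e * y ^ n = y ^ n * ((y ^ n)⁻¹ * e * y ^ n) := by group
      rw [← mul_ap, h2, mul_ap, h1]
    · rw [← avg_conj ρ D (y ^ n) (cj_self h.nrm n), hu.2, map_zero]
  intro j hj
  have h1 := congrArg (avg ρ (cj (y ^ j) E)) hsum
  rw [map_sum, map_zero, Finset.sum_eq_single_of_mem j (Finset.mem_range.mpr (by omega))] at h1
  · have h2 := hmem j _ (hw j)
    rw [avg_fixed ρ _ (card_ne_zero_of_MinD h hsF (hmax j).1) h2.1] at h1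
    rw [← inv_ap ρ (y ^ j) (w j), h1, map_zero]
  · intro i hi hij
    rw [Finset.mem_range] at hi
    exact VE_avg_zero ρ hcD hab (hmax j) (hmax i) (hdist' j i (Ne.symm hij) (by omega) hi)
      (hmem i _ (hw i))

end Cfsg.Agent.H167.OP
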