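import Cfsg.Agent.H167.OP.Alpha
import Cfsg.Agent.H575.Dim
import Cfsg.Agent.Blocks.ModularTraces
import Cfsg.Agent.H892.FixDim

/-!
# The linear lemma, nonabelian case (helper167)

`D` a minimal `y`-invariant noncentralised nonabelian `s`-group, `c = [a,b]` a commutator of `D` acting
nontrivially.  Then `dim [V,c] ≥ 2t - 1` (`s` odd), `≥ t - 1` for `s = 2`.
-/

set_option autoImplicit false
set_option linter.unusedSectionVars false

namespace Cfsg.Agent.H167.OP

open Module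

section irr

variable {K : Type*} [Field K] [IsAlgClosed K] {V : Type*} [AddCommGroup V] [Module K V]
  [FiniteDimensional K V] {D : Type*} [Group D] [Finite D]

/-- a minimal nonzero invariant subspace -/
theorem exists_min_inv (ρ : Representation K D V) (U : Submodule K V) (hU : U ≠ ⊥)
    (hinv : ∀ d, ∀ u ∈ U, ρ d u ∈ U) :
    ∃ M : Submodule K V, M ≤ U ∧ M ≠ ⊥ ∧ (∀ d, ∀ u ∈ M, ρ d u ∈ M) ∧
      ∀ M' : Submodule K V, M' ≤ M → (∀ d, ∀ u ∈ M', ρ d u ∈ M') → M' = ⊥ ∨ M' = M := by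
  let S : Set (Submodule K V) := {M | M ≤ U ∧ M ≠ ⊥ ∧ ∀ d, ∀ u ∈ M, ρ d u ∈ M}
  have hS : S.Nonempty := ⟨U, le_refl _, hU, hinv⟩
  have hwf : WellFounded ((· < ·) : Submodule K V → Submodule K V → Prop) := wellFounded_lt
  obtain ⟨M, hM, hmin⟩ := hwf.has_min S hS
  refine ⟨M, hM.1, hM.2.1, hM.2.2, fun M' hM' hi => ?_⟩
  by_cases h0 : M' = ⊥
  · exact Or.inl h0
  · right
    by_contra hne
    exact hmin M' ⟨hM'.trans hM.1, h0, hi⟩ (lt_of_le_of_ne hM' hne)

theorem irr_sub (ρ : Representation K D V) (M : Submodule K V) (hM : M ≠ ⊥)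
    (hinv : ∀ d, ∀ u ∈ M, ρ d u ∈ M)
    (hmin : ∀ M' : Submodule K V, M' ≤ M → (∀ d, ∀ u ∈ M', ρ d u ∈ M') → M' = ⊥ ∨ M' = M) :
    H575.Dim.Irr (H575.Dim.sub ρ (MonoidHom.id D) M hinv) := by
  refine ⟨Submodule.nontrivial_iff_ne_bot.mpr hM, fun W hW => ?_⟩
  rcases hmin (W.map M.subtype) (Submodule.map_subtype_le M W) (by
    rintro d _ ⟨w, hw, rfl⟩
    exact ⟨_, hW d w hw, rfl⟩) with h | h
  · left
    rw [eq_bot_iff]
    intro w hw
    have h1 : (w : V) ∈ W.map M.subtype := ⟨w, hw, rfl⟩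
    rw [h, Submodule.mem_bot] at h1
    rw [Submodule.mem_bot]
    exact Subtype.ext h1
  · right
    rw [eq_top_iff]
    intro x _
    have hx : (x : V) ∈ W.map M.subtype := by rw [h]; exact x.2
    obtain ⟨w, hw, hwx⟩ := hx
    have : w = x := Subtype.ext hwx
    rwa [← this]

/-- **Dimension of a faithful-like irreducible representation of a group of class two**: if commutators
act as scalars then `|D : X| = (dim V)²`, `X` the subgroup acting by scalars. -/
theorem card_eq_sq (ρ : Representation K D V) (hirr : H575.Dim.Irr ρ) (X : Subgroup D)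
    (hX : ∀ d, d ∈ X ↔ ∃ c : K, ∀ v, ρ d v = c • v)
    (hcl : ∀ a b : D, ∃ c : K, ∀ v, ρ (a * b * a⁻¹ * b⁻¹) v = c • v)
    (hD : (Nat.card D : K) ≠ 0) : X.index = finrank K V ^ 2 := by
  classical
  have hnt := hirr.1
  have : Fintype D := Fintype.ofFinite D
  have : Fintype (D ⧸ X) := Fintype.ofFinite _
  have hne : ∀ d, ρ d ≠ 0 := by
    intro d hd
    obtain ⟨v, hv⟩ := exists_ne (0 : V)
    apply hv
    rw [← inv_ap ρ d v, hd, LinearMap.zero_apply, map_zero]
  -- the character attached to `d`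
  choose l hl using hcl
  -- `ρ a ρ d ρ a⁻¹ = l a d • ρ d`
  have hconj : ∀ a d, ρ a * ρ d * ρ a⁻¹ = l a d • ρ d := by
    intro a d
    apply LinearMap.ext
    intro v
    rw [← map_mul, ← map_mul]
    have h1 : a * d * a⁻¹ = (a * d * a⁻¹ * d⁻¹) * d := by group
    rw [h1, mul_ap, hl]
    rfl
  have hl1 : ∀ d, l 1 d = 1 := by
    intro d
    have h1 := hconj 1 d
    rw [inv_one, map_one, one_mul, mul_one] at h1
    have h2 : (l 1 d - 1) • ρ d = 0 := by rw [sub_smul, one_smul, ← h1, sub_self]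
    exact sub_eq_zero.mp ((smul_eq_zero.mp h2).resolve_right (hne d))
  have hlmul : ∀ a b d, l (a * b) d = l a d * l b d := by
    intro a b d
    have h1 := hconj (a * b) d
    have h2 : ρ (a * b) * ρ d * ρ (a * b)⁻¹ = ρ a * (ρ b * ρ d * ρ b⁻¹) * ρ a⁻¹ := by
      rw [mul_inv_rev, map_mul, map_mul]
      simp only [mul_assoc]
    rw [h2, hconj, mul_smul_comm, smul_mul_assoc, hconj, smul_smul] at h1
    have h3 : (l (a * b) d - l a d * l b d) • ρ d = 0 := by
      rw [sub_smul, ← h1, mul_comm (l b d), sub_self]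
    exact sub_eq_zero.mp ((smul_eq_zero.mp h3).resolve_right (hne d))
  let f : D ⧸ X → D := Quotient.out
  have hf : ∀ q : D ⧸ X, (QuotientGroup.mk (f q) : D ⧸ X) = q := fun q => Quotient.out_eq' q
  have hli : LinearIndependent K (fun q : D ⧸ X => ρ (f q)) := by
    rw [Fintype.linearIndependent_iff]
    intro c hc q
    -- the averaging operator
    have hsum : ∀ q' : D ⧸ X, q' ≠ q → ∑ a : D, (l a (f q))⁻¹ * l a (f q') = 0 := by
      intro q' hq'
      let φ : D →* K :=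
        { toFun := fun a => (l a (f q))⁻¹ * l a (f q')
          map_one' := by rw [hl1, hl1]; simp
          map_mul' := fun a b => by rw [hlmul, hlmul, mul_inv]; ring }
      refine sum_hom_units_eq_zero φ fun hφ => hq' ?_
      have hl0 : ∀ a, l a (f q) ≠ 0 := by
        intro a h0
        have h1 := hlmul a a⁻¹ (f q)
        rw [mul_inv_cancel, hl1, h0, zero_mul] at h1
        exact one_ne_zero h1
      have h1 : ∀ a, l a (f q') = l a (f q) := by
        intro a
        have : (l a (f q))⁻¹ * l a (f q') = 1 := DFunLike.congr_fun hφ a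
        rw [inv_mul_eq_one₀ (hl0 a)] at this
        exact this.symm
      -- `(f q')⁻¹ * f q` is scalar
      have h2 : (f q')⁻¹ * f q ∈ X := by
        rw [hX]
        refine hirr.scalar (ρ ((f q')⁻¹ * f q)) fun a v => ?_
        have h3 : ρ a * ρ ((f q')⁻¹ * f q) * ρ a⁻¹ = ρ ((f q')⁻¹ * f q) := by
          have h4 : ρ a * ρ (f q') * ρ a⁻¹ = l a (f q) • ρ (f q') := by rw [hconj, h1]
          have h5 : ρ (f q') * ρ ((f q')⁻¹ * f q) = ρ (f q) := by
            rw [← map_mul, mul_inv_cancel_left]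
          have h6 : (ρ a * ρ (f q') * ρ a⁻¹) * (ρ a * ρ ((f q')⁻¹ * f q) * ρ a⁻¹) =
              ρ a * ρ (f q) * ρ a⁻¹ := by
            have : ρ a⁻¹ * ρ a = 1 := by rw [← map_mul, inv_mul_cancel, map_one]
            calc (ρ a * ρ (f q') * ρ a⁻¹) * (ρ a * ρ ((f q')⁻¹ * f q) * ρ a⁻¹)
                = ρ a * ρ (f q') * (ρ a⁻¹ * ρ a) * ρ ((f q')⁻¹ * f q) * ρ a⁻¹ := by
                  simp only [mul_assoc]
              _ = ρ a * (ρ (f q') * ρ ((f q')⁻¹ * f q)) * ρ a⁻¹ := by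
                  rw [this, mul_one]
                  simp only [mul_assoc]
              _ = _ := by rw [h5]
          rw [h4, hconj a (f q), smul_mul_assoc] at h6
          have h6' : ρ (f q') * (ρ a * ρ ((f q')⁻¹ * f q) * ρ a⁻¹) = ρ (f q) :=
            smul_right_injective _ (hl0 a) h6
          have h7 : ρ (f q')⁻¹ * (ρ (f q') * (ρ a * ρ ((f q')⁻¹ * f q) * ρ a⁻¹)) =
              ρ (f q')⁻¹ * (ρ (f q') * ρ ((f q')⁻¹ * f q)) := by rw [h6', h5]
          rw [← mul_assoc, ← mul_assoc (ρ (f q')⁻¹), ← map_mul, inv_mul_cancel, map_one,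
            one_mul, one_mul] at h7
          exact h7
        have h9 : ρ (a * ((f q')⁻¹ * f q) * a⁻¹) = ρ ((f q')⁻¹ * f q) := by
          rw [map_mul ρ (a * ((f q')⁻¹ * f q)) a⁻¹, map_mul ρ a ((f q')⁻¹ * f q)]; exact h3
        calc ρ ((f q')⁻¹ * f q) (ρ a v) = ρ (a * ((f q')⁻¹ * f q) * a⁻¹) (ρ a v) := by rw [h9]
          _ = ρ (a * ((f q')⁻¹ * f q) * a⁻¹ * a) v := (mul_ap ρ _ _ _).symm
          _ = ρ (a * ((f q')⁻¹ * f q)) v := by rw [inv_mul_cancel_right]
          _ = ρ a (ρ ((f q')⁻¹ * f q) v) := mul_ap ρ _ _ _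
      rw [← hf q', ← hf q, QuotientGroup.eq]
      exact h2
    have h1 : ∑ a : D, (l a (f q))⁻¹ • (ρ a * (∑ q', c q' • ρ (f q')) * ρ a⁻¹) = 0 := by
      rw [hc]
      simp
    have h2 : ∑ a : D, (l a (f q))⁻¹ • (ρ a * (∑ q', c q' • ρ (f q')) * ρ a⁻¹) =
        ∑ q', (c q' * ∑ a : D, (l a (f q))⁻¹ * l a (f q')) • ρ (f q') := by
      have h3 : ∀ a : D, (l a (f q))⁻¹ • (ρ a * (∑ q', c q' • ρ (f q')) * ρ a⁻¹) =
          ∑ q', (c q' * ((l a (f q))⁻¹ * l a (f q'))) • ρ (f q') := by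
        intro a
        rw [Finset.mul_sum, Finset.sum_mul, Finset.smul_sum]
        refine Finset.sum_congr rfl fun q' _ => ?_
        rw [mul_smul_comm, smul_mul_assoc, hconj, smul_smul, smul_smul]
        congr 1
        ring
      rw [Finset.sum_congr rfl fun a _ => h3 a, Finset.sum_comm]
      refine Finset.sum_congr rfl fun q' _ => ?_
      rw [← Finset.sum_smul, ← Finset.mul_sum]
    rw [h2, Finset.sum_eq_single q] at h1
    · have h3 : ∑ a : D, (l a (f q))⁻¹ * l a (f q) = (Nat.card D : K) := by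
        have hl0 : ∀ a, l a (f q) ≠ 0 := by
          intro a h0
          have h1 := hlmul a a⁻¹ (f q)
          rw [mul_inv_cancel, hl1, h0, zero_mul] at h1
          exact one_ne_zero h1
        rw [Finset.sum_congr rfl fun a _ => inv_mul_cancel₀ (hl0 a), Finset.sum_const,
          Finset.card_univ, Nat.card_eq_fintype_card, nsmul_eq_mul, mul_one]
      rw [h3] at h1
      have h4 := (smul_eq_zero.mp h1).resolve_right (hne (f q))
      exact (mul_eq_zero.mp h4).resolve_right hD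
    · intro q' _ hq'
      rw [hsum q' hq', mul_zero, zero_smul]
    · intro h
      exact absurd (Finset.mem_univ _) h
  have hsp : Submodule.span K (Set.range fun q : D ⧸ X => ρ (f q)) = ⊤ := by
    rw [eq_top_iff]
    intro T _
    let τ : Unit → Representation K D V := fun _ => ρ
    have hir : ∀ i, (τ i).IsIrreducible := by
      intro i
      refine { exists_pair_ne := ⟨⊥, ⊤, fun hb => ?_⟩, eq_bot_or_eq_top := fun W => ?_ }
      · have h1 : (⊥ : Submodule K V) = ⊤ := congrArg Subrepresentation.toSubmodule hb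
        exact bot_ne_top h1
      · rcases hirr.2 W.toSubmodule (fun g w hw => W.apply_mem_toSubmodule g hw) with h1 | h1
        · exact Or.inl (Subrepresentation.toSubmodule_injective h1)
        · exact Or.inr (Subrepresentation.toSubmodule_injective h1)
    obtain ⟨a, ha⟩ := Blocks.ModularTraces.exists_density τ hir
      (fun i j hij => absurd (Subsingleton.elim i j) hij) (fun _ => T)
    have h1 : T = (τ ()).asAlgebraHom a := (ha ()).symm
    rw [h1, Representation.asAlgebraHom_def, MonoidAlgebra.lift_apply]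
    refine Submodule.sum_mem _ fun d _ => Submodule.smul_mem _ _ ?_
    show ρ d ∈ _
    have h2 : (f (QuotientGroup.mk d))⁻¹ * d ∈ X := QuotientGroup.eq.mp (hf (QuotientGroup.mk d))
    obtain ⟨c, hc⟩ := (hX _).mp h2
    have h3 : ρ d = c • ρ (f (QuotientGroup.mk d)) := by
      apply LinearMap.ext
      intro v
      rw [LinearMap.smul_apply, ← map_smul, ← hc, ← mul_ap]
      congr 2
      group
    rw [h3]
    exact Submodule.smul_mem _ _ (Submodule.subset_span ⟨_, rfl⟩)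
  have b := Basis.mk hli hsp.ge
  have h1 := Module.finrank_eq_card_basis b
  rw [Module.finrank_linearMap] at h1
  rw [Subgroup.index, Nat.card_eq_fintype_card, ← h1, sq]

end irr

section closed

variable {K : Type*} [Field K] {V : Type*} [AddCommGroup V] [Module K V]
  [FiniteDimensional K V] {G : Type*} [Group G] [Finite G] {s t : ℕ} {y : G} {D : Subgroup G}

theorem pow_ap_add (ρ : Representation K G V) {c : G} {u v : V} (hu : ρ c u = u)
    (hv : ρ c v = v + u) (n : ℕ) : ρ (c ^ n) v = v + (n : K) • u := by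
  induction n with
  | zero => simp
  | succ n ih =>
    rw [pow_succ', mul_ap, ih, map_add, hv, map_smul, hu, Nat.cast_succ, add_smul, one_smul]
    abel

theorem beta_closed [IsAlgClosed K] (ρ : Representation K G V) (h : MinD s t y D)
    (hsK : (s : K) ≠ 0) {a b : G} (ha : a ∈ D) (hb : b ∈ D) (hρ : ρ (a * b * a⁻¹ * b⁻¹) ≠ 1) :
    ∃ δ : ℕ, 1 < δ ∧ δ ≤ finrank K (LinearMap.range (ρ (a * b * a⁻¹ * b⁻¹) - 1)) ∧
      (∃ k : ℕ, δ ^ 2 = s ^ k) ∧ δ ^ 2 ≡ 1 [MOD t] := by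
  classical
  have hsp : Fact s.Prime := ⟨h.hs⟩
  have hcD : (Nat.card D : K) ≠ 0 := card_ne_zero_of_MinD h hsK (le_refl D)
  have hcent : ∀ {a b x : G}, a ∈ D → b ∈ D → x ∈ D →
      (a * b * a⁻¹ * b⁻¹) * x = x * (a * b * a⁻¹ * b⁻¹) := fun ha hb hx => h.class_two ha hb hx
  set c := a * b * a⁻¹ * b⁻¹ with hc
  have hcmem : c ∈ D := D.mul_mem (D.mul_mem (D.mul_mem ha hb) (D.inv_mem ha)) (D.inv_mem hb)
  have hnab : ∃ a ∈ D, ∃ b ∈ D, a * b ≠ b * a := by
    refine ⟨a, ha, b, hb, fun hab => hρ ?_⟩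
    have : c = 1 := by rw [hc, hab, mul_inv_cancel_right, mul_inv_cancel]
    rw [this, map_one]
  set U := LinearMap.range (ρ c - 1) with hU
  have hUne : U ≠ ⊥ := by
    intro h0
    rw [hU, LinearMap.range_eq_bot, sub_eq_zero] at h0
    exact hρ h0
  have hUfix : ∀ u ∈ U, ρ c u = u → u = 0 := by
    rintro u ⟨v, hv⟩ hu
    have hv' : ρ c v = v + u := by
      have : ρ c v - v = u := hv
      rw [← this]; abel
    obtain ⟨k, hk⟩ := h.hD c hcmem
    have h1 := pow_ap_add ρ hu hv' (s ^ k)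
    rw [hk, one_ap, left_eq_add, smul_eq_zero] at h1
    refine h1.resolve_left ?_
    rw [Nat.cast_pow]
    exact pow_ne_zero _ hsK
  let τ : Representation K D V := ρ.comp D.subtype
  have hτ : ∀ (d : D) (v : V), τ d v = ρ (d : G) v := fun _ _ => rfl
  obtain ⟨M, hMU, hMne, hMinv, hMmin⟩ := exists_min_inv τ U hUne (by
    rintro d _ ⟨v, rfl⟩
    refine ⟨ρ d v, ?_⟩
    show ρ c (ρ d v) - ρ d v = ρ d (ρ c v - v)
    rw [map_sub, ← mul_ap, ← mul_ap, hcent ha hb d.2])
  let σ : Representation K D M := H575.Dim.sub τ (MonoidHom.id D) M hMinv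
  have hσ : ∀ (d : D) (m : M), ((σ d m : M) : V) = ρ (d : G) m := fun _ _ => rfl
  have hirr : H575.Dim.Irr σ := irr_sub τ M hMne hMinv hMmin
  have hnt := hirr.1
  -- the subgroup acting by scalars
  let X : Subgroup D :=
    { carrier := {d | ∃ e : K, ∀ v, σ d v = e • v}
      one_mem' := ⟨1, fun v => by rw [map_one, one_smul]; rfl⟩
      mul_mem' := by
        rintro d d' ⟨e, he⟩ ⟨e', he'⟩
        exact ⟨e * e', fun v => by rw [mul_ap, he', map_smul, he, smul_smul, mul_comm]⟩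
      inv_mem' := by
        rintro d ⟨e, he⟩
        refine ⟨e⁻¹, fun v => ?_⟩
        have he0 : e ≠ 0 := by
          rintro rfl
          obtain ⟨w, hw⟩ := exists_ne (0 : M)
          apply hw
          rw [← inv_ap σ d w, he, zero_smul, map_zero]
        have h1 : v = σ d (e⁻¹ • v) := by rw [he, smul_smul, mul_inv_cancel₀ he0, one_smul]
        conv_lhs => rw [h1, inv_ap] }
  have hXmem : ∀ d : D, d ∈ X ↔ ∃ e : K, ∀ v, σ d v = e • v := fun _ => Iff.rfl
  -- commutators with elements of `X` act trivially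
  have hXcomm : ∀ d ∈ X, ∀ x : D, ∀ v, σ (d * x * d⁻¹ * x⁻¹) v = v := by
    rintro d ⟨e, he⟩ x v
    have h1 : σ d (σ x (σ d⁻¹ (σ x⁻¹ v))) = v := by
      rw [he, ← map_smul, ← he, ap_inv, ap_inv]
    rw [mul_ap, mul_ap, mul_ap]
    exact h1
  have hXof : ∀ d : D, (∀ x : D, ∀ v, σ (d * x * d⁻¹ * x⁻¹) v = v) → d ∈ X := by
    intro d hd
    refine hirr.scalar (σ d) fun x v => ?_
    have h1 := hd x (σ x (σ d v))
    have h2 : σ (d * x * d⁻¹ * x⁻¹) (σ x (σ d v)) = σ d (σ x v) := by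
      rw [← mul_ap, ← mul_ap, ← mul_ap]
      congr 2
      group
    rw [← h2]
    exact h1
  have hcl : ∀ d x : D, ∃ e : K, ∀ v, σ (d * x * d⁻¹ * x⁻¹) v = e • v := by
    intro d x
    refine hirr.scalar (σ (d * x * d⁻¹ * x⁻¹)) fun z v => ?_
    rw [← mul_ap, ← mul_ap]
    congr 2
    apply Subtype.ext
    exact hcent d.2 x.2 z.2
  have hidx := card_eq_sq σ hirr X hXmem hcl hcD
  -- translate to `G`
  let X' : Subgroup G := X.map D.subtype
  have hX'sub : X'.subgroupOf D = X := Subgroup.comap_map_eq_self_of_injective D.subtype_injective X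
  have hrel : X'.relIndex D = X.index := by rw [Subgroup.relIndex, hX'sub]
  have hX'n : Nrm y X' := by
    rintro _ ⟨d, hd, rfl⟩
    have hyd : y * (d : G) * y⁻¹ ∈ D := h.nrm d d.2
    refine ⟨⟨y * (d : G) * y⁻¹, hyd⟩, hXof _ fun x v => ?_, rfl⟩
    have hx' : y⁻¹ * (x : G) * y ∈ D := nrm_inv h.nrm x.2
    have h1 := hXcomm d hd ⟨y⁻¹ * (x : G) * y, hx'⟩ v
    have h2 : (⟨y * (d : G) * y⁻¹, hyd⟩ : D) * x * (⟨y * (d : G) * y⁻¹, hyd⟩ : D)⁻¹ * x⁻¹ =
        d * ⟨y⁻¹ * (x : G) * y, hx'⟩ * d⁻¹ * (⟨y⁻¹ * (x : G) * y, hx'⟩ : D)⁻¹ := by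
      apply Subtype.ext
      show (y * (d : G) * y⁻¹) * x * (y * (d : G) * y⁻¹)⁻¹ * (x : G)⁻¹ =
        (d : G) * (y⁻¹ * (x : G) * y) * (d : G)⁻¹ * (y⁻¹ * (x : G) * y)⁻¹
      set z := (d : G) * (y⁻¹ * (x : G) * y) * (d : G)⁻¹ * (y⁻¹ * (x : G) * y)⁻¹ with hz
      have hzD : z ∈ D := D.mul_mem (D.mul_mem (D.mul_mem d.2 hx') (D.inv_mem d.2)) (D.inv_mem hx')
      have hyz : y * z = z * y :=
        h.cen_center hnab hzD (fun e he => hcent d.2 hx' he)
      have h3 : (y * (d : G) * y⁻¹) * x * (y * (d : G) * y⁻¹)⁻¹ * (x : G)⁻¹ = y * z * y⁻¹ := by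
        rw [hz]; group
      rw [h3, hyz, mul_inv_cancel_right]
    rw [h2]
    exact h1
  have hX'c : ∀ d ∈ D, ∀ x ∈ D, d * x * d⁻¹ * x⁻¹ ∈ X' := by
    intro d hd x hx
    refine ⟨⟨d, hd⟩ * ⟨x, hx⟩ * (⟨d, hd⟩ : D)⁻¹ * (⟨x, hx⟩ : D)⁻¹, hcl _ _, rfl⟩
  have hmod := h.relIndex_modEq hX'n hX'c
  rw [hrel, hidx] at hmod
  refine ⟨finrank K M, ?_, Submodule.finrank_mono hMU, ?_, hmod⟩
  · by_contra hle
    have h1 : finrank K M = 1 := by
      have : 0 < finrank K M := finrank_pos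
      omega
    rw [h1, one_pow, Subgroup.index_eq_one] at hidx
    have h2 : (⟨a, ha⟩ : D) ∈ X := by rw [hidx]; trivial
    obtain ⟨w, hw⟩ := exists_ne (0 : M)
    have h3 := congrArg Subtype.val (hXcomm _ h2 ⟨b, hb⟩ w)
    have h4 : ρ c (w : V) = w := h3
    exact hw (Subtype.ext (hUfix w (hMU w.2) h4))
  · have h1 : X.index ∣ Nat.card D := Subgroup.index_dvd_card X
    obtain ⟨n, hn⟩ := h.isPGroup.exists_card_eq
    rw [hn, hidx] at h1
    obtain ⟨k, -, hk⟩ := (Nat.dvd_prime_pow h.hs).mp h1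
    exact ⟨k, hk⟩

end closed

section beta

variable {F : Type*} [Field F] {V : Type*} [AddCommGroup V] [Module F V]
  [FiniteDimensional F V] {G : Type*} [Group G] [Finite G] {s t : ℕ} {y : G} {D : Subgroup G}

/-- extension of scalars of a representation -/
noncomputable def bc (K : Type*) [Field K] [Algebra F K] (ρ : Representation F G V) :
    Representation K G (TensorProduct F K V) where
  toFun g := (ρ g).baseChange K
  map_one' := by rw [map_one]; exact LinearMap.baseChange_one _ _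
  map_mul' g h := by rw [map_mul]; exact LinearMap.baseChange_mul _ _

theorem finrank_range_bc (K : Type*) [Field K] [Algebra F K] (ρ : Representation F G V) (g : G) :
    finrank K (LinearMap.range (bc K ρ g - 1)) = finrank F (LinearMap.range (ρ g - 1)) := by
  have h1 := LinearMap.finrank_range_add_finrank_ker (bc K ρ g - 1)
  have h2 := LinearMap.finrank_range_add_finrank_ker (ρ g - 1)
  have h3 := H892.FixDim.fx_baseChange K (ρ g)
  rw [Module.finrank_baseChange] at h1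
  unfold H892.FixDim.fx at h3
  have h4 : (bc K ρ g - 1) = ((ρ g).baseChange K - 1) := rfl
  rw [h4] at h1 ⊢
  omega

/-- **The nonabelian case**, general form -/
theorem beta_gen (ρ : Representation F G V) (h : MinD s t y D)
    (hsF : (s : F) ≠ 0) {a b : G} (ha : a ∈ D) (hb : b ∈ D) (hρ : ρ (a * b * a⁻¹ * b⁻¹) ≠ 1) :
    ∃ δ : ℕ, 1 < δ ∧ δ ≤ finrank F (LinearMap.range (ρ (a * b * a⁻¹ * b⁻¹) - 1)) ∧
      (∃ k : ℕ, δ ^ 2 = s ^ k) ∧ δ ^ 2 ≡ 1 [MOD t] := by
  let K := AlgebraicClosure F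
  have hsK : (s : K) ≠ 0 := by
    rw [← map_natCast (algebraMap F K)]
    exact (map_ne_zero_iff _ (algebraMap F K).injective).mpr hsF
  have h1 : bc K ρ (a * b * a⁻¹ * b⁻¹) ≠ 1 := by
    intro h0
    apply hρ
    have h2 := finrank_range_bc K ρ (a * b * a⁻¹ * b⁻¹)
    have h0' : bc K ρ (a * b * a⁻¹ * b⁻¹) - 1 = 0 := sub_eq_zero.mpr h0
    rw [h0', LinearMap.range_zero, finrank_bot] at h2
    have h3 := Submodule.finrank_eq_zero.mp h2.symm
    rw [LinearMap.range_eq_bot, sub_eq_zero] at h3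
    exact h3
  obtain ⟨δ, h2, h3, h4, h5⟩ := beta_closed (bc K ρ) h hsK ha hb h1
  rw [finrank_range_bc] at h3
  exact ⟨δ, h2, h3, h4, h5⟩

theorem arith_beta {δ t : ℕ} (ht : t.Prime) (hδ : 1 < δ) (hmod : δ ^ 2 ≡ 1 [MOD t]) :
    t ∣ δ - 1 ∨ t ∣ δ + 1 := by
  have h1 : t ∣ δ ^ 2 - 1 := (Nat.modEq_iff_dvd' (Nat.one_le_pow _ _ (by omega))).mp hmod.symm
  have h2 : δ ^ 2 - 1 = (δ - 1) * (δ + 1) := by
    obtain ⟨e, rfl⟩ := Nat.exists_eq_add_of_le hδ.le
    simp
    ring_nf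
    omega
  rw [h2] at h1
  exact (Nat.Prime.dvd_mul ht).mp h1

/-- **The nonabelian case, odd primes** -/
theorem beta_odd (ρ : Representation F G V) (h : MinD s t y D) (hs2 : s ≠ 2) (ht2 : t ≠ 2)
    (hsF : (s : F) ≠ 0) {a b : G} (ha : a ∈ D) (hb : b ∈ D) (hρ : ρ (a * b * a⁻¹ * b⁻¹) ≠ 1) :
    2 * t - 1 ≤ finrank F (LinearMap.range (ρ (a * b * a⁻¹ * b⁻¹) - 1)) := by
  obtain ⟨δ, h2, h3, ⟨k, h4⟩, h5⟩ := beta_gen ρ h hsF ha hb hρ
  have hodd : Odd δ := by
    have h6 : Odd (δ ^ 2) := by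
      rw [h4]
      exact (h.hs.odd_of_ne_two hs2).pow
    exact Nat.Odd.of_mul_left (by rw [sq] at h6; exact h6)
  have htodd : Odd t := h.ht.odd_of_ne_two ht2
  have h6 := arith_beta h.ht h2 h5
  obtain ⟨m, hm⟩ := hodd
  have h7 : ∀ x, x ≠ 0 → t ∣ 2 * x → 2 * t ≤ 2 * x := by
    intro x hx hdv
    have hcop : t.Coprime 2 := (Nat.coprime_primes h.ht Nat.prime_two).mpr ht2
    have := Nat.le_of_dvd (by omega) (hcop.dvd_of_dvd_mul_left hdv)
    omega
  rcases h6 with h6 | h6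
  · have := h7 m (by omega) (by rw [hm] at h6; simpa using h6)
    omega
  · have := h7 (m + 1) (by omega) (by rw [hm] at h6; convert h6 using 1; omega)
    omega

/-- **The nonabelian case, all primes** -/
theorem beta_all (ρ : Representation F G V) (h : MinD s t y D)
    (hsF : (s : F) ≠ 0) {a b : G} (ha : a ∈ D) (hb : b ∈ D) (hρ : ρ (a * b * a⁻¹ * b⁻¹) ≠ 1) :
    t - 1 ≤ finrank F (LinearMap.range (ρ (a * b * a⁻¹ * b⁻¹) - 1)) := by
  obtain ⟨δ, h2, h3, ⟨k, h4⟩, h5⟩ := beta_gen ρ h hsF ha hb hρ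
  rcases arith_beta h.ht h2 h5 with h6 | h6
  · have := Nat.le_of_dvd (by omega) h6
    omega
  · have := Nat.le_of_dvd (by omega) h6
    omega

/-- the form asked for by the classical rows -/
theorem beta (ρ : Representation F G V) (hρ : Function.Injective ρ) (h : MinD s t y D)
    (hs2 : s ≠ 2) (ht2 : t ≠ 2) (hsF : (s : F) ≠ 0) (hnab : ∃ a ∈ D, ∃ b ∈ D, a * b ≠ b * a) :
    2 * t - 1 ≤ finrank F ((⨆ d : D, LinearMap.range (ρ (d : G) - 1) : Submodule F V)) := by
  obtain ⟨a, ha, b, hb, hab⟩ := hnab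
  have hc : a * b * a⁻¹ * b⁻¹ ∈ D := D.mul_mem (D.mul_mem (D.mul_mem ha hb) (D.inv_mem ha)) (D.inv_mem hb)
  have h1 : ρ (a * b * a⁻¹ * b⁻¹) ≠ 1 := by
    intro h0
    apply hab
    have h2 : a * b * a⁻¹ * b⁻¹ = 1 := hρ (by rw [h0, map_one])
    have h3 : a * b = (a * b * a⁻¹ * b⁻¹) * (b * a) := by group
    rw [h3, h2, one_mul]
  refine (beta_odd ρ h hs2 ht2 hsF ha hb h1).trans ?_
  exact Submodule.finrank_mono
    (le_iSup (fun d : D => LinearMap.range (ρ (d : G) - 1)) ⟨a * b * a⁻¹ * b⁻¹, hc⟩)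

end beta

end Cfsg.Agent.H167.OP
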