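import Mathlib

/-!
# A coprime action: minimal invariant noncentralised subgroups (helper167)

`y` is a `t`-element normalising an `s`-subgroup.  `MinD s t y D` says that `D` is minimal among the
`y`-invariant subgroups which `y` does not centralise.
-/

set_option autoImplicit false

namespace Cfsg.Agent.H167.OP

open Subgroup

variable {G : Type*} [Group G]

/-- `y` normalises `D` -/
def Nrm (y : G) (D : Subgroup G) : Prop := ∀ d ∈ D, y * d * y⁻¹ ∈ D

/-- `y` centralises `D` -/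
def Cen (y : G) (D : Subgroup G) : Prop := ∀ d ∈ D, y * d = d * y

theorem eq_one_of_coprime_pow {c : G} {a b : ℕ} (h1 : c ^ a = 1) (h2 : c ^ b = 1)
    (hab : a.Coprime b) : c = 1 := by
  have h3 : orderOf c ∣ 1 := by
    rw [← hab]
    exact Nat.dvd_gcd (orderOf_dvd_of_pow_eq_one h1) (orderOf_dvd_of_pow_eq_one h2)
  exact orderOf_eq_one_iff.mp (Nat.dvd_one.mp h3)

theorem conj_pow' (a y : G) (n : ℕ) : (a * y * a⁻¹) ^ n = a * y ^ n * a⁻¹ := conj_pow

/-- the order lemma -/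
theorem comm_order {y c d : G} {m n : ℕ} (hy : y ^ n = 1) (hc : c ^ m = 1) (hmn : m.Coprime n)
    (hyc : y * c = c * y) (h : y * d * y⁻¹ * d⁻¹ = c) : c = 1 := by
  have h1 : d * y * d⁻¹ = c⁻¹ * y := by
    rw [← h]; group
  have h2 : (c⁻¹ * y) ^ n = 1 := by
    rw [← h1, conj_pow, hy, mul_one, mul_inv_cancel]
  have h3 : Commute c⁻¹ y := (Commute.inv_left (show Commute c y from hyc.symm))
  rw [h3.mul_pow, hy, mul_one, inv_pow, inv_eq_one] at h2
  exact eq_one_of_coprime_pow hc h2 hmn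

/-- a minimal noncentralised invariant subgroup -/
structure MinD (s t : ℕ) (y : G) (D : Subgroup G) : Prop where
  hs : s.Prime
  ht : t.Prime
  hst : s ≠ t
  hD : ∀ d ∈ D, ∃ k : ℕ, d ^ s ^ k = 1
  hy : ∃ k : ℕ, y ^ t ^ k = 1
  nrm : Nrm y D
  ncen : ¬ Cen y D
  hmin : ∀ E : Subgroup G, E ≤ D → Nrm y E → E = D ∨ Cen y E

theorem exists_minD [Finite G] {s t : ℕ} (hs : s.Prime) (ht : t.Prime) (hst : s ≠ t) {y : G}
    {B : Subgroup G} (hB : ∀ d ∈ B, ∃ k : ℕ, d ^ s ^ k = 1) (hy : ∃ k : ℕ, y ^ t ^ k = 1)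
    (hn : Nrm y B) (hc : ¬ Cen y B) : ∃ D ≤ B, MinD s t y D := by
  classical
  let S : Set (Subgroup G) := {D | D ≤ B ∧ Nrm y D ∧ ¬ Cen y D}
  have hS : S.Nonempty := ⟨B, le_refl _, hn, hc⟩
  obtain ⟨D, hDS, hDmin⟩ := (Set.toFinite S).exists_minimal hS
  refine ⟨D, hDS.1, ⟨hs, ht, hst, fun d hd => hB d (hDS.1 hd), hy, hDS.2.1, hDS.2.2, ?_⟩⟩
  intro E hE hEn
  by_cases hEc : Cen y E
  · exact Or.inr hEc
  · left
    exact le_antisymm hE (hDmin ⟨hE.trans hDS.1, hEn, hEc⟩ hE)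

variable {s t : ℕ} {y : G} {D : Subgroup G}

namespace MinD

theorem coprime_pow (h : MinD s t y D) (i j : ℕ) : (s ^ i).Coprime (t ^ j) :=
  Nat.Coprime.pow _ _ ((Nat.coprime_primes h.hs h.ht).mpr h.hst)

theorem order (h : MinD s t y D) {c d : G} (hc : c ∈ D) (hyc : y * c = c * y)
    (h1 : y * d * y⁻¹ * d⁻¹ = c) : c = 1 := by
  obtain ⟨m, hm⟩ := h.hD c hc
  obtain ⟨n, hn⟩ := h.hy
  exact comm_order hn hm (h.coprime_pow m n) hyc h1

theorem comm_mem (h : MinD s t y D) {d : G} (hd : d ∈ D) : y * d * y⁻¹ * d⁻¹ ∈ D :=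
  D.mul_mem (h.nrm d hd) (D.inv_mem hd)

theorem cen_of_layer (h : MinD s t y D) {N : Subgroup G} (hND : N ≤ D) (hc : Cen y N)
    (hl : ∀ d ∈ D, y * d * y⁻¹ * d⁻¹ ∈ N) : False := by
  apply h.ncen
  intro d hd
  have h1 := h.order (hND (hl d hd)) (hc _ (hl d hd)) rfl
  have h2 : y * d = (y * d * y⁻¹ * d⁻¹) * (d * y) := by group
  rw [h2, h1, one_mul]

/-- the subgroup generated by the commutators `[y,d]` -/
def Cm (y : G) (D : Subgroup G) : Subgroup G := Subgroup.closure {x | ∃ d ∈ D, x = y * d * y⁻¹ * d⁻¹}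

theorem closure_eq (h : MinD s t y D) : Cm y D = D := by
  have hle : Cm y D ≤ D := by
    rw [Cm, Subgroup.closure_le]
    rintro _ ⟨d, hd, rfl⟩
    exact h.comm_mem hd
  have hn : Nrm y (Cm y D) := by
    intro x hx
    have hx' : x ∈ Subgroup.closure {x | ∃ d ∈ D, x = y * d * y⁻¹ * d⁻¹} := hx
    have : MulAut.conj y x ∈ (Subgroup.closure {x | ∃ d ∈ D, x = y * d * y⁻¹ * d⁻¹}).map
        (MulAut.conj y).toMonoidHom := ⟨x, hx', rfl⟩
    rw [MonoidHom.map_closure] at this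
    refine Subgroup.closure_mono ?_ this
    rintro _ ⟨_, ⟨d, hd, rfl⟩, rfl⟩
    refine ⟨y * d * y⁻¹, h.nrm d hd, ?_⟩
    show y * (y * d * y⁻¹ * d⁻¹) * y⁻¹ = _
    group
  rcases h.hmin _ hle hn with h1 | h1
  · exact h1
  · exact (h.cen_of_layer hle h1 fun d hd => Subgroup.subset_closure ⟨d, hd, rfl⟩).elim

/-- proper invariant normal subgroups are central -/
theorem central (h : MinD s t y D) {N : Subgroup G} (hND : N ≤ D) (hne : N ≠ D) (hn : Nrm y N)
    (hnD : ∀ d ∈ D, ∀ n ∈ N, d * n * d⁻¹ ∈ N) {n d : G} (hnN : n ∈ N) (hd : d ∈ D) :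
    n * d = d * n := by
  have hc : Cen y N := (h.hmin N hND hn).resolve_left hne
  have hle : Cm y D ≤ Subgroup.centralizer {n} := by
    rw [Cm, Subgroup.closure_le]
    rintro _ ⟨e, he, rfl⟩
    rw [SetLike.mem_coe, Subgroup.mem_centralizer_singleton_iff]
    have h1 : y * n = n * y := hc n hnN
    have h2 : e⁻¹ * n * e ∈ N := by
      have := hnD e⁻¹ (D.inv_mem he) n hnN
      rwa [inv_inv] at this
    have h3 : y * (e⁻¹ * n * e) = (e⁻¹ * n * e) * y := hc _ h2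
    have h4 : (e * y⁻¹ * e⁻¹) * n = n * (e * y⁻¹ * e⁻¹) := by
      have h5 : (e⁻¹ * n * e) * y⁻¹ = y⁻¹ * (e⁻¹ * n * e) := by
        rw [eq_inv_mul_iff_mul_eq, ← mul_assoc, h3, mul_inv_cancel_right]
      calc (e * y⁻¹ * e⁻¹) * n = e * (y⁻¹ * (e⁻¹ * n * e)) * e⁻¹ := by group
        _ = e * ((e⁻¹ * n * e) * y⁻¹) * e⁻¹ := by rw [h5]
        _ = n * (e * y⁻¹ * e⁻¹) := by group
    calc y * e * y⁻¹ * e⁻¹ * n = y * ((e * y⁻¹ * e⁻¹) * n) := by group
      _ = y * (n * (e * y⁻¹ * e⁻¹)) := by rw [h4]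
      _ = (y * n) * (e * y⁻¹ * e⁻¹) := by group
      _ = (n * y) * (e * y⁻¹ * e⁻¹) := by rw [h1]
      _ = n * (y * e * y⁻¹ * e⁻¹) := by group
  rw [h.closure_eq] at hle
  have h1 := hle hd
  rw [Subgroup.mem_centralizer_singleton_iff] at h1
  exact h1.symm

/-- abelian case: exponent `s` -/
theorem pow_eq_one (h : MinD s t y D) (hab : ∀ a ∈ D, ∀ b ∈ D, a * b = b * a) {d : G} (hd : d ∈ D) :
    d ^ s = 1 := by
  let Om : Subgroup G :=
    { carrier := {d | d ∈ D ∧ d ^ s = 1}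
      one_mem' := ⟨D.one_mem, one_pow _⟩
      mul_mem' := by
        rintro a b ⟨ha, ha1⟩ ⟨hb, hb1⟩
        refine ⟨D.mul_mem ha hb, ?_⟩
        rw [(show Commute a b from hab a ha b hb).mul_pow, ha1, hb1, one_mul]
      inv_mem' := by
        rintro a ⟨ha, ha1⟩
        exact ⟨D.inv_mem ha, by rw [inv_pow, ha1, inv_one]⟩ }
  have hle : Om ≤ D := fun x hx => hx.1
  have hn : Nrm y Om := by
    rintro x ⟨hx, hx1⟩
    exact ⟨h.nrm x hx, by rw [conj_pow, hx1, mul_one, mul_inv_cancel]⟩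
  rcases h.hmin _ hle hn with h1 | h1
  · have : d ∈ Om := by rw [h1]; exact hd
    exact this.2
  · exfalso
    apply h.ncen
    intro e he
    by_contra hne
    set c := y * e * y⁻¹ * e⁻¹ with hc
    have hcD : c ∈ D := h.comm_mem he
    have hc1 : c ≠ 1 := by
      intro h2
      apply hne
      have h3 : y * e = c * (e * y) := by rw [hc]; group
      rw [h3, h2, one_mul]
    have hpow : ∀ m : ℕ, y * e ^ m * y⁻¹ * (e ^ m)⁻¹ = c ^ m := by
      intro m
      have h2 : y * e ^ m * y⁻¹ = (c * e) ^ m := by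
        rw [← conj_pow]
        congr 1
        rw [hc]
        group
      rw [h2, (show Commute c e from hab c hcD e he).mul_pow, mul_inv_cancel_right]
    -- take the power of `c` of order `s`
    obtain ⟨k, hk, hk'⟩ : ∃ k : ℕ, c ^ s ^ k ≠ 1 ∧ c ^ s ^ (k + 1) = 1 := by
      by_contra hcon
      push Not at hcon
      obtain ⟨k, hk⟩ := h.hD c hcD
      have : ∀ j : ℕ, c ^ s ^ j ≠ 1 := by
        intro j
        induction j with
        | zero => simpa using hc1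
        | succ j ih => exact hcon j ih
      exact this k hk
    have h3 : c ^ s ^ k ∈ Om := by
      refine ⟨D.pow_mem hcD _, ?_⟩
      rw [← pow_mul, ← pow_succ]
      exact hk'
    exact hk (h.order h3.1 (h1 _ h3) (hpow (s ^ k)))

/-- `[y,a]` for `a` not commuting with `y`: `D` lies in `⟨y, y^a⟩` -/
theorem le_closure_pair (h : MinD s t y D) {a : G} (ha : a ∈ D) (hay : y * a ≠ a * y) :
    D ≤ Subgroup.closure {y, a * y * a⁻¹} := by
  set L := Subgroup.closure ({y, a * y * a⁻¹} : Set G) with hL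
  have hyL : y ∈ L := Subgroup.subset_closure (by simp)
  have haL : a * y * a⁻¹ ∈ L := Subgroup.subset_closure (by simp)
  have hle : L ⊓ D ≤ D := inf_le_right
  have hn : Nrm y (L ⊓ D) := by
    rintro x ⟨hx, hx1⟩
    exact ⟨L.mul_mem (L.mul_mem hyL hx) (L.inv_mem hyL), h.nrm x hx1⟩
  rcases h.hmin _ hle hn with h1 | h1
  · rw [← h1]; exact inf_le_left
  · exfalso
    have h2 : y * a * y⁻¹ * a⁻¹ ∈ L ⊓ D := by
      refine ⟨?_, h.comm_mem ha⟩
      have : y * a * y⁻¹ * a⁻¹ = y * (a * y * a⁻¹)⁻¹ := by group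
      rw [this]
      exact L.mul_mem hyL (L.inv_mem haL)
    have h3 := h.order h2.2 (h1 _ h2) rfl
    apply hay
    have h4 : y * a = (y * a * y⁻¹ * a⁻¹) * (a * y) := by group
    rw [h4, h3, one_mul]

theorem exists_ncomm (h : MinD s t y D) : ∃ a ∈ D, y * a ≠ a * y := by
  have := h.ncen
  unfold Cen at this
  push Not at this
  exact this

theorem isPGroup (h : MinD s t y D) : IsPGroup s D := by
  intro d
  obtain ⟨k, hk⟩ := h.hD d d.2
  exact ⟨k, Subtype.ext (by simpa using hk)⟩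

end MinD

end Cfsg.Agent.H167.OP
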