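import Cfsg.Agent.H167.OP.MinD

/-!
# Minimal invariant noncentralised subgroups, continued: indices and the class two case (helper167)
-/

set_option autoImplicit false

namespace Cfsg.Agent.H167.OP

open Subgroup
open scoped commutatorElement

variable {G : Type*} [Group G] {s t : ℕ} {y : G} {D : Subgroup G}

namespace MinD

section quot

variable (X : Subgroup G) (hX : ∀ a ∈ D, ∀ b ∈ D, a * b * a⁻¹ * b⁻¹ ∈ X)

theorem normal_subgroupOf (hX : ∀ a ∈ D, ∀ b ∈ D, a * b * a⁻¹ * b⁻¹ ∈ X) : (X.subgroupOf D).Normal := by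
  refine ⟨fun n hn g => ?_⟩
  rw [Subgroup.mem_subgroupOf] at hn ⊢
  have h1 := hX g g.2 n n.2
  have h2 : ((g * n * g⁻¹ : D) : G) = ((g : G) * n * (g : G)⁻¹ * (n : G)⁻¹) * n := by
    simp only [Subgroup.coe_mul, Subgroup.coe_inv]
    group
  rw [h2]
  exact X.mul_mem h1 hn

/-- conjugation by `y` as an endomorphism of `D` -/
def al (h : MinD s t y D) : D →* D where
  toFun d := ⟨y * d * y⁻¹, h.nrm d d.2⟩
  map_one' := Subtype.ext (by simp)
  map_mul' a b := Subtype.ext (by
    show y * (a * b) * y⁻¹ = (y * a * y⁻¹) * (y * b * y⁻¹)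
    group)

theorem coe_al (h : MinD s t y D) (d : D) : ((h.al d : D) : G) = y * d * y⁻¹ := rfl

theorem coe_al_iterate (h : MinD s t y D) (d : D) (n : ℕ) :
    (((fun x => h.al x)^[n] d : D) : G) = y ^ n * d * (y ^ n)⁻¹ := by
  induction n with
  | zero => simp
  | succ n ih =>
    rw [Function.iterate_succ_apply', coe_al, ih, pow_succ']
    group

end quot

/-- `y` acts on `D/X` without nontrivial fixed points -/
theorem mem_of_comm_mem [Finite G] (h : MinD s t y D) {X : Subgroup G} (hn : Nrm y X)
    (hX : ∀ a ∈ D, ∀ b ∈ D, a * b * a⁻¹ * b⁻¹ ∈ X) {d : G} (hd : d ∈ D)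
    (hdX : y * d * y⁻¹ * d⁻¹ ∈ X) : d ∈ X := by
  classical
  have hnor : (X.subgroupOf D).Normal := normal_subgroupOf X hX
  let Q := D ⧸ X.subgroupOf D
  have hcomm : ∀ a b : Q, a * b = b * a := by
    intro a b
    induction a using QuotientGroup.induction_on with
    | H a =>
      induction b using QuotientGroup.induction_on with
      | H b =>
        rw [← QuotientGroup.mk_mul, ← QuotientGroup.mk_mul, QuotientGroup.eq]
        rw [Subgroup.mem_subgroupOf]
        have h1 := hX _ (D.inv_mem b.2) _ (D.inv_mem a.2)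
        have h2 : (((a * b)⁻¹ * (b * a) : D) : G) = (b : G)⁻¹ * (a : G)⁻¹ * (b : G)⁻¹⁻¹ * (a : G)⁻¹⁻¹ := by
          simp only [Subgroup.coe_mul, Subgroup.coe_inv]
          group
        rw [h2]
        exact h1
  let β : D →* Q :=
    { toFun := fun d => (QuotientGroup.mk (h.al d * d⁻¹) : Q)
      map_one' := by simp
      map_mul' := by
        intro a b
        rw [map_mul, mul_inv_rev, QuotientGroup.mk_mul, QuotientGroup.mk_mul, QuotientGroup.mk_mul,
          QuotientGroup.mk_mul, QuotientGroup.mk_mul]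
        generalize (QuotientGroup.mk (h.al a) : Q) = x1
        generalize (QuotientGroup.mk (h.al b) : Q) = x2
        generalize (QuotientGroup.mk a⁻¹ : Q) = x3
        generalize (QuotientGroup.mk b⁻¹ : Q) = x4
        rw [hcomm x4 x3, mul_assoc, mul_assoc, ← mul_assoc x2 x3 x4, hcomm x2 x3, mul_assoc] }
  have hker : X.subgroupOf D ≤ β.ker := by
    intro x hx
    rw [MonoidHom.mem_ker]
    show (QuotientGroup.mk (h.al x * x⁻¹) : Q) = 1
    rw [QuotientGroup.eq_one_iff, Subgroup.mem_subgroupOf]
    rw [Subgroup.mem_subgroupOf] at hx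
    exact X.mul_mem (hn _ hx) (X.inv_mem hx)
  have hsurj : Function.Surjective β := by
    rw [← MonoidHom.range_eq_top]
    let R : Subgroup G := (β.range.comap (QuotientGroup.mk' (X.subgroupOf D))).map D.subtype
    have h1 : Cm y D ≤ R := by
      rw [Cm, Subgroup.closure_le]
      rintro _ ⟨e, he, rfl⟩
      refine ⟨⟨y * e * y⁻¹ * e⁻¹, h.comm_mem he⟩, ?_, rfl⟩
      rw [SetLike.mem_coe, Subgroup.mem_comap]
      exact ⟨⟨e, he⟩, rfl⟩
    rw [h.closure_eq] at h1
    rw [eq_top_iff]
    intro q _
    induction q using QuotientGroup.induction_on with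
    | H a =>
      obtain ⟨b, hb, hba⟩ := h1 a.2
      have : b = a := Subtype.ext hba
      rw [← this]
      exact hb
  let γ : Q →* Q := QuotientGroup.lift (X.subgroupOf D) β hker
  have hγs : Function.Surjective γ := by
    intro q
    obtain ⟨d, hd⟩ := hsurj q
    exact ⟨QuotientGroup.mk d, hd⟩
  have hγi : Function.Injective γ := Finite.injective_iff_surjective.mpr hγs
  have h1 : γ (QuotientGroup.mk ⟨d, hd⟩) = 1 := by
    show (QuotientGroup.mk (h.al ⟨d, hd⟩ * (⟨d, hd⟩ : D)⁻¹) : Q) = 1
    rw [QuotientGroup.eq_one_iff, Subgroup.mem_subgroupOf]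
    exact hdX
  have h2 : (QuotientGroup.mk ⟨d, hd⟩ : Q) = 1 := hγi (by rw [h1, map_one])
  rw [QuotientGroup.eq_one_iff, Subgroup.mem_subgroupOf] at h2
  exact h2

/-- `|D : X| ≡ 1 (mod t)` -/
theorem relIndex_modEq [Finite G] (h : MinD s t y D) {X : Subgroup G} (hn : Nrm y X) (hX : ∀ a ∈ D, ∀ b ∈ D, a * b * a⁻¹ * b⁻¹ ∈ X) :
    X.relIndex D ≡ 1 [MOD t] := by
  classical
  have ht : Fact t.Prime := ⟨h.ht⟩
  have hnor : (X.subgroupOf D).Normal := normal_subgroupOf X hX
  let Q := D ⧸ X.subgroupOf D
  have : Fintype Q := Fintype.ofFinite Q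
  have hker : X.subgroupOf D ≤ (X.subgroupOf D).comap h.al := by
    intro x hx
    rw [Subgroup.mem_comap, Subgroup.mem_subgroupOf]
    rw [Subgroup.mem_subgroupOf] at hx
    exact hn _ hx
  let γ : Q →* Q := QuotientGroup.map _ _ h.al hker
  let f : Function.End Q := fun q => γ q
  have hmk : ∀ d : D, f (QuotientGroup.mk d) = QuotientGroup.mk (h.al d) := fun d => rfl
  have hit : ∀ (n : ℕ) (d : D), (f^[n] (QuotientGroup.mk d) : Q) =
      QuotientGroup.mk ((fun x => h.al x)^[n] d) := by
    intro n d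
    induction n with
    | zero => rfl
    | succ n ih =>
      rw [Function.iterate_succ_apply', Function.iterate_succ_apply', ih]
      rfl
  obtain ⟨k, hk⟩ := h.hy
  have hf : f ^ t ^ k = 1 := by
    funext q
    induction q using QuotientGroup.induction_on with
    | H d =>
      have h1 : (f ^ t ^ k) = f^[t ^ k] := by
        have : ∀ n : ℕ, (f ^ n : Function.End Q) = f^[n] := by
          intro n
          induction n with
          | zero => rfl
          | succ n ih => rw [pow_succ, ih]; rfl
        exact this _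
      rw [h1, hit]
      show (QuotientGroup.mk _ : Q) = QuotientGroup.mk d
      congr 1
      apply Subtype.ext
      rw [coe_al_iterate, hk]
      simp
  have h1 := Equiv.Perm.card_fixedPoints_modEq (p := t) hf
  have h2 : Fintype.card (Function.fixedPoints f) = 1 := by
    rw [Fintype.card_eq_one_iff]
    refine ⟨⟨1, ?_⟩, ?_⟩
    · show γ 1 = 1
      exact map_one γ
    · rintro ⟨q, hq⟩
      apply Subtype.ext
      show q = 1
      induction q using QuotientGroup.induction_on with
      | H d =>
        rw [Function.mem_fixedPoints] at hq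
        have h3 : (QuotientGroup.mk (h.al d) : Q) = QuotientGroup.mk d := hq
        rw [eq_comm, QuotientGroup.eq, Subgroup.mem_subgroupOf] at h3
        rw [QuotientGroup.eq_one_iff, Subgroup.mem_subgroupOf]
        refine h.mem_of_comm_mem hn hX d.2 ?_
        have h4 : (d : G) * (((d⁻¹ * h.al d : D) : G)) * (d : G)⁻¹ ∈ X := by
          have := hnor.conj_mem (d⁻¹ * h.al d) (by rw [Subgroup.mem_subgroupOf]; exact h3) d
          rw [Subgroup.mem_subgroupOf] at this
          exact this
        have h5 : y * d * y⁻¹ * (d : G)⁻¹ = (d : G) * (((d⁻¹ * h.al d : D) : G)) * (d : G)⁻¹ := by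
          rw [Subgroup.coe_mul, Subgroup.coe_inv, coe_al]
          group
        rw [h5]
        exact h4
  rw [h2] at h1
  have h3 : X.relIndex D = Fintype.card Q := by
    rw [Subgroup.relIndex, Subgroup.index, Nat.card_eq_fintype_card]
  rw [h3]
  exact h1

/-- a nonabelian `D` has class two, and `y` centralises its centre -/
theorem class_two [Finite G] (h : MinD s t y D) {a b : G} (ha : a ∈ D) (hb : b ∈ D) {x : G}
    (hx : x ∈ D) : (a * b * a⁻¹ * b⁻¹) * x = x * (a * b * a⁻¹ * b⁻¹) := by
  have hs : Fact s.Prime := ⟨h.hs⟩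
  have hnil : Group.IsNilpotent D := h.isPGroup.isNilpotent
  have hsol : Group.IsSolvable D := inferInstance
  let N : Subgroup G := ⁅D, D⁆
  have hle : N ≤ D := by
    rw [Subgroup.commutator_le]
    intro x hx z hz
    rw [commutatorElement_def]
    exact D.mul_mem (D.mul_mem (D.mul_mem hx hz) (D.inv_mem hx)) (D.inv_mem hz)
  have hn : Nrm y N := by
    intro x hx
    have h1 : MulAut.conj y x ∈ (⁅D, D⁆ : Subgroup G).map (MulAut.conj y).toMonoidHom := ⟨x, hx, rfl⟩
    rw [Subgroup.map_commutator] at h1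
    refine Subgroup.commutator_mono ?_ ?_ h1 <;>
    · rintro _ ⟨d, hd, rfl⟩
      exact h.nrm d hd
  have hne : N ≠ D := by
    intro hcon
    have h1 : commutator D = ⊤ := by
      rw [eq_top_iff]
      rintro ⟨z, hz⟩ _
      have h2 : z ∈ N := by rw [hcon]; exact hz
      have h3 : N = (commutator D).map D.subtype := by
        rw [commutator_def, Subgroup.map_commutator]
        simp only [N]
        rw [← MonoidHom.range_eq_map, Subgroup.range_subtype]
      rw [h3] at h2
      obtain ⟨w, hw, hwz⟩ := h2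
      have : w = ⟨z, hz⟩ := Subtype.ext hwz
      rw [← this]
      exact hw
    have h2 : Nontrivial D := by
      by_contra hnt
      rw [not_nontrivial_iff_subsingleton] at hnt
      apply h.ncen
      intro d hd
      have : (⟨d, hd⟩ : D) = 1 := Subsingleton.elim _ _
      have : d = 1 := congrArg Subtype.val this
      rw [this, mul_one, one_mul]
    exact absurd h1 (ne_of_lt (Group.IsSolvable.commutator_lt_top_of_nontrivial D))
  refine h.central hle hne hn ?_ ?_ hx
  · intro d hd n hnN
    have h1 : d * n * d⁻¹ = ⁅d, n⁆ * n := by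
      rw [commutatorElement_def]; group
    rw [h1]
    exact N.mul_mem (Subgroup.commutator_mem_commutator hd (hle hnN)) hnN
  · have := Subgroup.commutator_mem_commutator (H₁ := D) (H₂ := D) ha hb
    rwa [commutatorElement_def] at this

theorem cen_center (h : MinD s t y D) (hnab : ∃ a ∈ D, ∃ b ∈ D, a * b ≠ b * a) {z : G} (hz : z ∈ D)
    (hzc : ∀ d ∈ D, z * d = d * z) [Finite G] : y * z = z * y := by
  let Z : Subgroup G :=
    { carrier := {z | z ∈ D ∧ ∀ d ∈ D, z * d = d * z}
      one_mem' := ⟨D.one_mem, fun d _ => by rw [one_mul, mul_one]⟩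
      mul_mem' := by
        rintro a b ⟨ha, ha1⟩ ⟨hb, hb1⟩
        refine ⟨D.mul_mem ha hb, fun d hd => ?_⟩
        rw [mul_assoc, hb1 d hd, ← mul_assoc, ha1 d hd, mul_assoc]
      inv_mem' := by
        rintro a ⟨ha, ha1⟩
        refine ⟨D.inv_mem ha, fun d hd => ?_⟩
        rw [inv_mul_eq_iff_eq_mul, ← mul_assoc, ha1 d hd, mul_inv_cancel_right] }
  have hle : Z ≤ D := fun x hx => hx.1
  have hsurj : ∀ d ∈ D, ∃ e ∈ D, y * e * y⁻¹ = d := by
    intro d hd
    have hinj : Function.Injective h.al := by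
      intro a b hab
      have := congrArg Subtype.val hab
      rw [coe_al, coe_al] at this
      exact Subtype.ext (mul_left_cancel (mul_right_cancel this))
    obtain ⟨e, he⟩ := Finite.surjective_of_injective hinj ⟨d, hd⟩
    exact ⟨e, e.2, congrArg Subtype.val he⟩
  have hn : Nrm y Z := by
    rintro x ⟨hx, hx1⟩
    refine ⟨h.nrm x hx, fun d hd => ?_⟩
    obtain ⟨e, he, rfl⟩ := hsurj d hd
    have := hx1 e he
    calc y * x * y⁻¹ * (y * e * y⁻¹) = y * (x * e) * y⁻¹ := by group
      _ = y * (e * x) * y⁻¹ := by rw [this]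
      _ = y * e * y⁻¹ * (y * x * y⁻¹) := by group
  rcases h.hmin Z hle hn with h1 | h1
  · exfalso
    obtain ⟨a, ha, b, hb, hab⟩ := hnab
    rw [← h1] at ha
    exact hab (ha.2 b hb)
  · exact h1 z ⟨hz, hzc⟩

end MinD

end Cfsg.Agent.H167.OP
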